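import Cfsg.Agent.H220.EP.ASeven

/-!
# S3499, `A ≅ S₇` (helper220)

`EPT A Γ` with `A ≅ S₇`: `|Q : A| ≤ 183² = 33489`.
-/

set_option autoImplicit false

namespace Cfsg.Agent.H220.EP

open Equiv Equiv.Perm Subgroup MulAction Cfsg.Agent.H839.EP Cfsg.Agent.H284
open scoped Pointwise

/-- the subgroups of order 168 are not maximal in `S₇` -/
theorem not_F7_of_top {L D : Subgroup (Perm (Fin 7))} (hL : MaxNot (⊤ : Subgroup (Perm (Fin 7))) L) (hD : D ∈ F7)
    (h : L ⊓ A7 = D) : False := by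
  by_cases hLA : L ≤ A7
  · rcases hL.max A7 hLA le_top with h1 | h1
    · exact hL.nalt h1.le
    · have h2 := card_A7
      rw [h1, card_top, card_P7] at h2
      omega
  · have h1 := card_mul_index (A7.subgroupOf L)
    have h2 : A7.relIndex L ∣ A7.index := relIndex_dvd_index_of_normal _ _
    have h3 : A7.index = 2 := by
      have := card_mul_index A7
      rw [card_A7, card_P7] at this
      omega
    have h4 : A7.relIndex L ≠ 1 := by
      rw [Ne, relIndex_eq_one]
      exact hLA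
    have h5 : A7.relIndex L = 2 := by
      rw [h3] at h2
      rcases (Nat.dvd_prime Nat.prime_two).1 h2 with h | h
      · exact absurd h h4
      · exact h
    rw [relIndex] at h5
    rw [h5, ← inf_subgroupOf_right, card_subgroupOf inf_le_right, inf_comm, h, hD.2] at h1
    have h16 : 2 ^ 4 ∣ Nat.card L := by
      rw [← h1]
      norm_num
    have : Fact (Nat.Prime 2) := ⟨Nat.prime_two⟩
    obtain ⟨R, hR⟩ := Sylow.exists_subgroup_card_pow_prime (G := L) 2 h16
    obtain ⟨g, hg⟩ := conj_mem_of_card (p := 2) (n := 4) (k := 315) (G := Perm (Fin 7)) (by rw [card_P7]; norm_num)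
      (by norm_num) (R.map L.subtype) (by rw [card_map_of_injective L.subtype_injective, hR]) (swap 0 1)
      (by
        apply orderOf_eq_prime
        · rw [pow_two, swap_mul_self]
        · decide)
    have h6 : g * swap 0 1 * g⁻¹ = swap (g 0) (g 1) := by
      rw [mul_inv_eq_iff_eq_mul]
      exact (mul_swap_eq_swap_mul g 0 1)
    rw [h6] at hg
    have h7 : L = ⊤ := by
      refine subgroup_eq_top_of_isPreprimitive_of_isSwap_mem (preprim ?_) _ ?_ (map_subtype_le R hg)
      · rw [← h1]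
        norm_num
      · refine ⟨g 0, g 1, ?_, rfl⟩
        intro h8
        exact absurd (g.injective h8) (by decide)
    apply hL.nalt
    rw [h7]
    exact le_top

theorem ncard_maxNot_top : {L : Subgroup (Perm (Fin 7)) | MaxNot (⊤ : Subgroup (Perm (Fin 7))) L}.ncard ≤ 183 := by
  have hsub : {L : Subgroup (Perm (Fin 7)) | MaxNot (⊤ : Subgroup (Perm (Fin 7))) L} ⊆
      ((fun Δ : Finset (Fin 7) => (⊤ : Subgroup (Perm (Fin 7))) ⊓ SS Δ) '' {Δ : Finset (Fin 7) | 1 ≤ Δ.card ∧ Δ.card ≤ 3} ∪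
        (fun Y : Subgroup (Perm (Fin 7)) => (⊤ : Subgroup (Perm (Fin 7))) ⊓ normalizer (Y : Set (Perm (Fin 7)))) ''
          Ys 7 ⊤) := by
    intro L hL
    rcases types le_top hL with ⟨Δ, h1, h3, h4⟩ | ⟨Y, h1, h2⟩ | ⟨D, h1, -, h2⟩
    · exact Or.inl ⟨Δ, ⟨h1, h3⟩, h4.symm⟩
    · exact Or.inr ⟨Y, ⟨le_top, h1⟩, h2.symm⟩
    · exact (not_F7_of_top hL h1 h2).elim
  refine (Set.ncard_le_ncard hsub (Set.toFinite _)).trans ?_
  refine (Set.ncard_union_le _ _).trans ?_
  have h1 : {Δ : Finset (Fin 7) | 1 ≤ Δ.card ∧ Δ.card ≤ 3}.ncard = 63 := by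
    have h2 : {Δ : Finset (Fin 7) | 1 ≤ Δ.card ∧ Δ.card ≤ 3} =
        ((Finset.univ.filter (fun D : Finset (Fin 7) => 1 ≤ D.card ∧ D.card ≤ 3) : Finset (Finset (Fin 7))) :
          Set (Finset (Fin 7))) := by
      ext Δ
      simp
    rw [h2, Set.ncard_coe_finset]
    decide
  have h2 := Set.ncard_image_le (f := fun Δ : Finset (Fin 7) => (⊤ : Subgroup (Perm (Fin 7))) ⊓ SS Δ)
    (Set.toFinite {Δ : Finset (Fin 7) | 1 ≤ Δ.card ∧ Δ.card ≤ 3})
  have h3 := Set.ncard_image_le
    (f := fun Y : Subgroup (Perm (Fin 7)) => (⊤ : Subgroup (Perm (Fin 7))) ⊓ normalizer (Y : Set (Perm (Fin 7))))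
    (Set.toFinite (Ys 7 (⊤ : Subgroup (Perm (Fin 7)))))
  have h6 := card_Ys
  omega

section frame

variable {Q : Type*} [Group Q] [Finite Q] {A : Subgroup Q} {Γ : Subgroup (MulAut Q)}

/-- **(S7)** -/
theorem index_le_S7 (h : EPT A Γ) (hS : Cfsg.Agent.H419.EP.HasSoc A (alternatingGroup (Fin 7)))
    (hA : Nat.card A = 5040) : A.index ≤ 33489 := by
  obtain ⟨N, h1, h2, h3, ⟨e⟩⟩ := hS
  have hS : Soc A N := ⟨h1, h2, h3⟩
  obtain ⟨ρ, hR⟩ := exists_rho hS h le_rfl e
  have hinj : Function.Injective (ρ.comp (conjA h)) := by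
    refine hR.inj.comp ?_
    rw [injective_iff_map_eq_one]
    intro a ha
    apply Subtype.ext
    apply hS.cen a a.2
    intro x _
    have h4 : (MulAut.conj (a : Q)) = 1 := congrArg Subtype.val ha
    have h5 : MulAut.conj (a : Q) x = x := by rw [h4]; rfl
    rw [MulAut.conj_apply, mul_inv_eq_iff_eq_mul] at h5
    exact h5
  have h4 : (ρ.comp (conjA h)).range = ⊤ := by
    apply eq_top_of_card_eq
    rw [card_P7, ← hA]
    exact (Nat.card_congr ((ρ.comp (conjA h)).ofInjective hinj).toEquiv).symm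
  have h5 : ρ.range = ⊤ := by
    rw [eq_top_iff, ← h4]
    rintro _ ⟨a, rfl⟩
    exact ⟨conjA h a, rfl⟩
  have h6 := hR.ncard_le hS h (by norm_num)
  rw [h5] at h6
  exact h.index_le.trans ((Nat.pow_le_pow_left (h6.trans ncard_maxNot_top) 2).trans (by norm_num))

/-- `EPT` with socle `A₇`: the index is at most `51984`, and at most `33489` if `A ≅ S₇` -/
theorem seven_card (h : EPT A Γ) (hS : Cfsg.Agent.H419.EP.HasSoc A (alternatingGroup (Fin 7))) :
    Nat.card A = 2520 ∧ A.index ≤ 51984 ∨ Nat.card A = 5040 ∧ A.index ≤ 33489 := by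
  have hd := hS.card_dvd
  have hA7 : Nat.card (alternatingGroup (Fin 7)) = 2520 := card_A7
  rw [hA7] at hd
  obtain ⟨N, h1, h2, h3, ⟨e⟩⟩ := id hS
  have hS' : Soc A N := ⟨h1, h2, h3⟩
  obtain ⟨ρ, hR⟩ := exists_rho hS' h le_rfl e
  have hinj : Function.Injective (ρ.comp (conjA h)) := by
    refine hR.inj.comp ?_
    rw [injective_iff_map_eq_one]
    intro a ha
    apply Subtype.ext
    apply hS'.cen a a.2
    intro x _
    have h4 : (MulAut.conj (a : Q)) = 1 := congrArg Subtype.val ha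
    have h5 : MulAut.conj (a : Q) x = x := by rw [h4]; rfl
    rw [MulAut.conj_apply, mul_inv_eq_iff_eq_mul] at h5
    exact h5
  have hA1 : Nat.card A ∣ 5040 := by
    rw [← card_P7]
    exact card_dvd_of_injective _ hinj
  obtain ⟨k, hk⟩ := hd
  rw [hk] at hA1
  have h4 : k ∣ 2 := Nat.dvd_of_mul_dvd_mul_left (k := 2520) (by norm_num) hA1
  rcases (Nat.dvd_prime Nat.prime_two).1 h4 with h5 | h5
  · left
    exact ⟨by rw [hk, h5], index_le_seven h hS⟩
  · right
    have hA : Nat.card A = 5040 := by rw [hk, h5]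
    exact ⟨hA, index_le_S7 h hS hA⟩

/-- no `EPT` with socle `A₇` in `Ω₈⁺(2)` (or any larger group) -/
theorem seven_large (h : EPT A Γ) (hS : Cfsg.Agent.H419.EP.HasSoc A (alternatingGroup (Fin 7)))
    (hQ : 174182400 ≤ Nat.card Q) : False := by
  have h1 := card_mul_index A
  rcases seven_card h hS with ⟨h2, h3⟩ | ⟨h2, h3⟩
  · rw [h2] at h1
    omega
  · rw [h2] at h1
    omega

end frame

end Cfsg.Agent.H220.EP
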