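import Cfsg.Agent.H220.EP.PermSeven
import Cfsg.Agent.H839.EP.AltFrame
import Cfsg.Agent.H419.EP.Soc

/-!
# S3499, socle `A₇` (helper220)

`EPT A Γ` with socle `A₇`: `|Q : A| ≤ 228²`.
-/

set_option autoImplicit false

namespace Cfsg.Agent.H220.EP

open Equiv Equiv.Perm Subgroup MulAction Cfsg.Agent.H839.EP Cfsg.Agent.H284
open scoped Pointwise

/-- the stabiliser of a set of points -/
abbrev SS (Δ : Finset (Fin 7)) : Subgroup (Perm (Fin 7)) := stabilizer (Perm (Fin 7)) Δ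

theorem mem_SS {Δ : Finset (Fin 7)} {g : Perm (Fin 7)} : g ∈ SS Δ ↔ ∀ i ∈ Δ, g i ∈ Δ := by
  rw [mem_stabilizer_iff]
  constructor
  · intro h i hi
    rw [← h]
    exact Finset.smul_mem_smul_finset hi
  · intro h
    apply Finset.eq_of_subset_of_card_le
    · intro j hj
      obtain ⟨i, hi, rfl⟩ := Finset.mem_smul_finset.1 hj
      exact h i hi
    · rw [Finset.card_smul_finset]

theorem not_A7_SS {Δ : Finset (Fin 7)} (h1 : 1 ≤ Δ.card) (h3 : Δ.card ≤ 3) : ¬ A7 ≤ SS Δ := by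
  intro h
  have h7 := pretrans (D := A7) (by rw [card_A7]; norm_num)
  obtain ⟨a, ha⟩ := Finset.card_pos.1 h1
  have h4 : Δ = Finset.univ := by
    rw [Finset.eq_univ_iff_forall]
    intro b
    obtain ⟨g, hg⟩ := h7.exists_smul_eq a b
    rw [← hg]
    exact mem_SS.1 (h g.2) a ha
  rw [h4, Finset.card_univ, Fintype.card_fin] at h3
  omega

theorem not_A7_norm {Y : Subgroup (Perm (Fin 7))} (hY : Nat.card Y = 7) : ¬ A7 ≤ normalizer (Y : Set (Perm (Fin 7))) := by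
  intro h
  have h1 := (card_dvd_of_le h).trans (card_norm_dvd hY)
  rw [card_A7] at h1
  norm_num at h1

theorem not_A7_norm_F7 {D : Subgroup (Perm (Fin 7))} (hD : D ∈ F7) : ¬ A7 ≤ normalizer (D : Set (Perm (Fin 7))) := by
  intro h
  have hs : IsSimpleGroup A7 := alternatingGroup.isSimpleGroup (by simp)
  have hn : (D.subgroupOf A7).Normal := by
    constructor
    intro d hd a
    exact (mem_normalizer_iff.1 (h a.2) d).1 hd
  have hc := card_subgroupOf hD.1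
  rcases hn.eq_bot_or_eq_top with h1 | h1
  · rw [h1, card_bot, hD.2] at hc
    omega
  · rw [h1, card_top, card_A7, hD.2] at hc
    omega

/-- an intransitive group stabilises a set of size at most 3 -/
theorem exists_SS {L : Subgroup (Perm (Fin 7))} (h : ¬ 7 ∣ Nat.card L) :
    ∃ Δ : Finset (Fin 7), 1 ≤ Δ.card ∧ Δ.card ≤ 3 ∧ L ≤ SS Δ := by
  classical
  have hne : (orbit L (0 : Fin 7)).ncard ≠ 7 := by
    intro h1
    apply h
    have h2 := index_stabilizer L (0 : Fin 7)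
    have h3 := index_dvd_card (stabilizer L (0 : Fin 7))
    rwa [h2, h1] at h3
  set O : Finset (Fin 7) := (orbit L (0 : Fin 7)).toFinset with hO
  have hmem : ∀ i, i ∈ O ↔ i ∈ orbit L (0 : Fin 7) := fun i => by rw [hO, Set.mem_toFinset]
  have hOc : O.card ≠ 7 := by
    intro h1
    apply hne
    rw [← Set.ncard_coe_finset, hO, Set.coe_toFinset] at h1
    exact h1
  have hO7 : O.card ≤ 7 := by
    have := O.card_le_univ
    rwa [Fintype.card_fin] at this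
  have hinv : ∀ g ∈ L, ∀ i, i ∈ O ↔ g i ∈ O := by
    intro g hg i
    have h1 : g i = (⟨g, hg⟩ : L) • i := rfl
    rw [hmem, hmem, h1, ← orbit_eq_iff, ← orbit_eq_iff, orbit_smul]
  have h0 : 1 ≤ O.card := Finset.card_pos.2 ⟨0, (hmem 0).2 (mem_orbit_self _)⟩
  rcases Nat.lt_or_ge O.card 4 with h4 | h4
  · exact ⟨O, h0, by omega, fun g hg => mem_SS.2 fun i hi => (hinv g hg i).1 hi⟩
  · refine ⟨Oᶜ, ?_, ?_, fun g hg => mem_SS.2 fun i hi => ?_⟩
    · rw [Finset.card_compl, Fintype.card_fin]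
      omega
    · rw [Finset.card_compl, Fintype.card_fin]
      omega
    · rw [Finset.mem_compl] at hi ⊢
      rwa [← hinv g hg i]

theorem conj_A7 (g : Perm (Fin 7)) {a : Perm (Fin 7)} (h : a ∈ A7) : g * a * g⁻¹ ∈ A7 := by
  have hn : (alternatingGroup (Fin 7)).Normal := inferInstance
  exact hn.conj_mem a h g

/-- **The maximal subgroups of `A₇` and `S₇`** which do not contain `A₇` -/
theorem types {G L : Subgroup (Perm (Fin 7))} (hG : A7 ≤ G) (hL : MaxNot G L) :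
    (∃ Δ : Finset (Fin 7), 1 ≤ Δ.card ∧ Δ.card ≤ 3 ∧ L = G ⊓ SS Δ) ∨
      (∃ Y : Subgroup (Perm (Fin 7)), Nat.card Y = 7 ∧ L = G ⊓ normalizer (Y : Set (Perm (Fin 7)))) ∨
      (∃ D ∈ F7, L = G ⊓ normalizer (D : Set (Perm (Fin 7))) ∧ L ⊓ A7 = D) := by
  by_cases h7 : 7 ∣ Nat.card L
  · right
    obtain ⟨Y, hYL, hY7⟩ := exists_Ys h7
    have hY : Y ∈ Ys 7 (L ⊓ A7) := ⟨le_inf hYL (Y_le_A7 hY7), hY7⟩
    have hconj : ∀ g ∈ L, ∀ d ∈ L ⊓ A7, g * d * g⁻¹ ∈ L ⊓ A7 := fun g hg d hd =>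
      ⟨L.mul_mem (L.mul_mem hg hd.1) (L.inv_mem hg), conj_A7 g hd.2⟩
    rcases dich inf_le_right (fun h => hL.nalt (h.trans inf_le_left)) hY with h | h
    · left
      refine ⟨Y, hY7, hL.eq_inf hG ?_ (not_A7_norm hY7)⟩
      obtain ⟨h21, -⟩ := norm_A7 hY7
      have hB : (Ys 7 (normalizer (Y : Set (Perm (Fin 7))) ⊓ A7)).ncard = 1 := by
        have h1 := ncard_Ys_mul (p := 7) (k := 3) (D := normalizer (Y : Set (Perm (Fin 7))) ⊓ A7) h21 (by norm_num)
          (Y := Y) ⟨le_inf le_normalizer (Y_le_A7 hY7), hY7⟩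
        rw [← inf_assoc, inf_idem, h21] at h1
        omega
      rw [Set.ncard_eq_one] at hB
      obtain ⟨Y0, hY0⟩ := hB
      have hu : ∀ Y' : Subgroup (Perm (Fin 7)), Y' ∈ Ys 7 (normalizer (Y : Set (Perm (Fin 7))) ⊓ A7) → Y' = Y0 := by
        intro Y' hY'
        rw [hY0] at hY'
        exact hY'
      have hYY0 := hu Y ⟨le_inf le_normalizer (Y_le_A7 hY7), hY7⟩
      intro g hg
      have hg1 : Y.map (MulAut.conj g).toMonoidHom = Y := by
        rw [hYY0]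
        rw [← hYY0]
        rw [hu (Y.map (MulAut.conj g).toMonoidHom), hYY0]
        refine ⟨le_inf (fun y hy => h ?_) ?_, ?_⟩
        · obtain ⟨y', hy', rfl⟩ := hy
          exact hconj g hg y' (hY.1 hy')
        · rintro _ ⟨y', hy', rfl⟩
          exact conj_A7 g (Y_le_A7 hY7 hy')
        · rw [card_map_of_injective (MulAut.conj g).injective, hY7]
      rw [mem_normalizer_iff]
      intro y
      constructor
      · intro hy
        rw [← hg1]
        exact ⟨y, hy, rfl⟩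
      · intro hy
        rw [← hg1] at hy
        obtain ⟨y', hy', h1⟩ := hy
        have h2 : y' = y := (MulAut.conj g).injective h1
        rw [← h2]
        exact hy'
    · right
      have hD : L ⊓ A7 ∈ F7 := ⟨inf_le_right, h.1⟩
      refine ⟨L ⊓ A7, hD, hL.eq_inf hG ?_ (not_A7_norm_F7 hD), rfl⟩
      intro g hg
      rw [mem_normalizer_iff]
      intro d
      refine ⟨hconj g hg d, fun h1 => ?_⟩
      have h2 := hconj g⁻¹ (L.inv_mem hg) _ h1
      have h3 : g⁻¹ * (g * d * g⁻¹) * g⁻¹⁻¹ = d := by group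
      rwa [h3] at h2
  · left
    obtain ⟨Δ, h1, h3, h4⟩ := exists_SS h7
    exact ⟨Δ, h1, h3, hL.eq_inf hG h4 (not_A7_SS h1 h3)⟩

theorem ncard_maxNot {G : Subgroup (Perm (Fin 7))} (hG : A7 ≤ G) :
    {L : Subgroup (Perm (Fin 7)) | MaxNot G L}.ncard ≤ 228 := by
  have hsub : {L : Subgroup (Perm (Fin 7)) | MaxNot G L} ⊆
      ((fun Δ : Finset (Fin 7) => G ⊓ SS Δ) '' {Δ : Finset (Fin 7) | 1 ≤ Δ.card ∧ Δ.card ≤ 3} ∪
        (fun Y : Subgroup (Perm (Fin 7)) => G ⊓ normalizer (Y : Set (Perm (Fin 7)))) '' Ys 7 ⊤) ∪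
        (fun D : Subgroup (Perm (Fin 7)) => G ⊓ normalizer (D : Set (Perm (Fin 7)))) '' F7 := by
    intro L hL
    rcases types hG hL with ⟨Δ, h1, h3, h4⟩ | ⟨Y, h1, h2⟩ | ⟨D, h1, h2, -⟩
    · exact Or.inl (Or.inl ⟨Δ, ⟨h1, h3⟩, h4.symm⟩)
    · exact Or.inl (Or.inr ⟨Y, ⟨le_top, h1⟩, h2.symm⟩)
    · exact Or.inr ⟨D, h1, h2.symm⟩
  refine (Set.ncard_le_ncard hsub (Set.toFinite _)).trans ?_
  refine (Set.ncard_union_le _ _).trans ?_
  have h1 : {Δ : Finset (Fin 7) | 1 ≤ Δ.card ∧ Δ.card ≤ 3}.ncard = 63 := by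
    have h2 : {Δ : Finset (Fin 7) | 1 ≤ Δ.card ∧ Δ.card ≤ 3} =
        ((Finset.univ.filter (fun D : Finset (Fin 7) => 1 ≤ D.card ∧ D.card ≤ 3) : Finset (Finset (Fin 7))) :
          Set (Finset (Fin 7))) := by
      ext Δ
      simp
    rw [h2, Set.ncard_coe_finset]
    decide
  have h2 := Set.ncard_image_le (f := fun Δ : Finset (Fin 7) => G ⊓ SS Δ)
    (Set.toFinite {Δ : Finset (Fin 7) | 1 ≤ Δ.card ∧ Δ.card ≤ 3})
  have h3 := Set.ncard_image_le (f := fun Y : Subgroup (Perm (Fin 7)) => G ⊓ normalizer (Y : Set (Perm (Fin 7))))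
    (Set.toFinite (Ys 7 (⊤ : Subgroup (Perm (Fin 7)))))
  have h4 := Set.ncard_image_le (f := fun D : Subgroup (Perm (Fin 7)) => G ⊓ normalizer (D : Set (Perm (Fin 7))))
    (Set.toFinite F7)
  have h5 := Set.ncard_union_le
    ((fun Δ : Finset (Fin 7) => G ⊓ SS Δ) '' {Δ : Finset (Fin 7) | 1 ≤ Δ.card ∧ Δ.card ≤ 3})
    ((fun Y : Subgroup (Perm (Fin 7)) => G ⊓ normalizer (Y : Set (Perm (Fin 7)))) '' Ys 7 ⊤)
  have h6 := card_Ys
  have h7 := ncard_F7
  omega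

section frame

variable {Q : Type*} [Group Q] [Finite Q] {A : Subgroup Q} {Γ : Subgroup (MulAut Q)}

theorem index_le_seven_soc {N : Subgroup Q} (h : EPT A Γ) (hS : Soc A N) (e : N ≃* alternatingGroup (Fin 7)) :
    A.index ≤ 51984 := by
  obtain ⟨G, hG, h1⟩ := index_le_maxNot hS h le_rfl e
  exact h1.trans ((Nat.pow_le_pow_left (ncard_maxNot hG) 2).trans (by norm_num))

/-- **(A7)** `EPT` with socle `A₇` -/
theorem index_le_seven (h : EPT A Γ) (hS : Cfsg.Agent.H419.EP.HasSoc A (alternatingGroup (Fin 7))) :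
    A.index ≤ 51984 := by
  obtain ⟨N, h1, h2, h3, ⟨e⟩⟩ := hS
  exact index_le_seven_soc h ⟨h1, h2, h3⟩ e

end frame

end Cfsg.Agent.H220.EP
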